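import Groth.Agent.EulerMult.Cover
import Groth.Agent.S5222
import Groth.Agent.S7784
import Groth.Agent.W7See.Trivial

/-!
A finite flat morphism of abelian varieties becomes trivial after pulling back along itself.
-/

set_option autoImplicit false
set_option backward.isDefEq.respectTransparency false
set_option backward.isDefEq.respectTransparency.types false
set_option linter.style.haveILetI false
set_option linter.unusedSectionVars false

universe u

open CategoryTheory CategoryTheory.Limits MonoidalCategory CartesianMonoidalCategory MonObj AlgebraicGeometry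
open TopologicalSpace

noncomputable section

namespace Groth.Agent.EulerMult

variable {k : Type u} [Field k]

/-- Locally free modules on the spectrum of a field are free. -/
theorem nonempty_iso_free_field {d : ℕ} {M : (Spec (CommRingCat.of k)).Modules}
    (hM : FlatMod.IsFinLocFreeOfRank d M) : Nonempty (M ≅ FlatMod.freeMod (Spec (CommRingCat.of k)) d) := by
  obtain ⟨W, e, hxW, he⟩ := CurveRR.exists_frame hM (IsLocalRing.closedPoint k)
  obtain rfl : W = ⊤ := eq_top_iff.2 fun x _ => by
    rwa [show x = IsLocalRing.closedPoint k from Subsingleton.elim (α := PrimeSpectrum k) _ _]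
  have hb : TMul.IsFrame e := he
  have hbv := PBundle.isFrame_bv (Spec (CommRingCat.of k)) d
  obtain ⟨φ, hφ⟩ := PBundle.exists_hom_frame hb rfl (PBundle.bv _)
  obtain ⟨ψ, hψ⟩ := PBundle.exists_hom_frame hbv rfl e
  exact ⟨⟨φ, ψ, PBundle.hom_ext_frame hb rfl fun i => ((congrArg (ψ.app ⊤) (hφ i)).trans (hψ i)).trans rfl,
    PBundle.hom_ext_frame hbv rfl fun i => ((congrArg (φ.app ⊤) (hψ i)).trans (hφ i)).trans rfl⟩⟩

variable {X Y : Over (Spec (CommRingCat.of k))}
  [GrpObj X] [IsProper X.hom] [GeometricallyIntegral X.hom]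
  [GrpObj Y] [IsProper Y.hom] [GeometricallyIntegral Y.hom]

theorem nonempty_self_trivial (f : X ⟶ Y) [IsFinite f.left] [Flat f.left] {d : ℕ}
    (hd : ∀ y : Y.left, f.left.finrank y = d) :
    Nonempty ((Scheme.Modules.pullback f.left).obj (ResDesc.algMod f.left) ≅ FlatMod.freeMod X.left d) := by
  let S := Spec (CommRingCat.of k)
  let c : 𝟙_ (Over S) ⟶ Y := η[X] ≫ f
  let f₀ : X ⟶ Y := f * (toUnit X ≫ c⁻¹)
  let t : Y ⟶ Y := 𝟙 Y * (toUnit Y ≫ c)
  have htt : ∀ a : 𝟙_ (Over S) ⟶ Y,
      (𝟙 Y * (toUnit Y ≫ a)) ≫ (𝟙 Y * (toUnit Y ≫ a⁻¹)) = 𝟙 Y := fun a => by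
    rw [MonObj.comp_mul, Category.comp_id, comp_toUnit_assoc, GrpObj.comp_inv, mul_inv_cancel_right]
  haveI : IsIso t := ⟨𝟙 Y * (toUnit Y ≫ c⁻¹), htt c, by simpa using htt c⁻¹⟩
  have hft : f₀ ≫ t = f := by
    simp only [f₀, t]
    rw [MonObj.comp_mul, Category.comp_id, comp_toUnit_assoc, GrpObj.comp_inv, inv_mul_cancel_right]
  haveI := W7See.geometricallyConnected_of_geometricallyIntegral X.hom
  haveI := W7See.geometricallyConnected_of_geometricallyIntegral Y.hom
  haveI : IsMonHom f₀ := by
    refine Groth.Agent.S7784.result X Y f₀ ?_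
    simp only [f₀]
    rw [MonObj.comp_mul, comp_toUnit_assoc, GrpObj.comp_inv]
    show c * (toUnit _ ≫ c)⁻¹ = η[Y]
    rw [show toUnit (𝟙_ (Over S)) = 𝟙 _ from Subsingleton.elim _ _, Category.id_comp, mul_inv_cancel, Hom.one_def,
      show toUnit (𝟙_ (Over S)) = 𝟙 _ from Subsingleton.elim _ _, Category.id_comp]
  let K := pullback f₀ η[Y]
  have hk : IsKernelPair f (fst X K) ((X ◁ pullback.fst f₀ η[Y]) ≫ μ[X]) := by
    rw [← hft]
    exact IsKernelPair.comp_of_mono (Groth.Agent.S5222.result f₀)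
  have H : IsPullback ((X ◁ pullback.fst f₀ η[Y]) ≫ μ[X]).left (fst X K).left f.left f.left :=
    (IsPullback.map (Over.forget S) hk).flip
  obtain ⟨w₁⟩ := nonempty_algMod_baseChange (f := f.left) (π := f.left) H
  haveI : IsFinite f₀.left := by
    have : f₀.left = f.left ≫ (inv t).left := by rw [← Over.comp_left, ← hft]; simp
    haveI hi : IsIso (inv t).left := inferInstanceAs (IsIso ((Over.forget S).map (inv t)))
    rw [this]; infer_instance
  have HK := IsPullback.map (Over.forget S) (IsPullback.of_hasPullback f₀ η[Y])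
  haveI : IsFinite (pullback.snd f₀ η[Y]).left := MorphismProperty.of_isPullback HK (inferInstanceAs (IsFinite f₀.left))
  haveI : IsFinite K.hom := by
    rw [← Over.w (pullback.snd f₀ η[Y])]
    haveI : IsFinite (𝟙_ (Over S)).hom := inferInstanceAs (IsFinite (𝟙 S))
    infer_instance
  have Hp : IsPullback (fst X K).left (snd X K).left X.hom K.hom := IsPullback.of_hasPullback X.hom K.hom
  obtain ⟨x₀⟩ : Nonempty X.left := ⟨η[X].left (IsLocalRing.closedPoint k)⟩
  haveI : Flat (fst X K).left := MorphismProperty.of_isPullback (P := @Flat) H (inferInstanceAs (Flat f.left))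
  haveI : IsFinite (fst X K).left := MorphismProperty.of_isPullback (P := @IsFinite) H (inferInstanceAs (IsFinite f.left))
  have hKd : ∀ s, K.hom.finrank s = d := fun s => by
    have h1 : (fst X K).left.finrank x₀ = d := (Scheme.Hom.finrank_of_isPullback _ _ _ _ H x₀).trans (hd _)
    rw [Scheme.Hom.finrank_of_isPullback _ _ _ _ Hp.flip x₀] at h1
    exact (congrArg K.hom.finrank (Subsingleton.elim (α := PrimeSpectrum k) _ _)).trans h1
  obtain ⟨w₂⟩ := nonempty_algMod_baseChange (f := K.hom) (π := X.hom) Hp.flip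
  obtain ⟨v⟩ := nonempty_iso_free_field (FEtRank.isFinLocFreeOfRank_of_finrank_eq K.hom hKd)
  exact ⟨w₁ ≪≫ w₂.symm ≪≫ (Scheme.Modules.pullback X.hom).mapIso v ≪≫ DerPerf.pullFreeIso X.hom d⟩

end Groth.Agent.EulerMult
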