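import Groth.Agent.CurveRR.Tensor
import Groth.Agent.CurveRR.Multi
import Groth.Agent.Intersect.Push
import Groth.Agent.P1Split.Dim
import Groth.Agent.S0927
import Groth.Agent.ResDesc.ProjFormula
import Groth.Agent.FEtRank.PushRank

/-!
Euler characteristics of twists by locally free modules that become trivial on a finite cover.
-/

set_option autoImplicit false
set_option backward.isDefEq.respectTransparency false
set_option linter.style.haveILetI false
set_option linter.unusedSectionVars false

universe u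

open CategoryTheory CategoryTheory.Limits AlgebraicGeometry TopologicalSpace Opposite
open Groth.Agent.CohFinite

noncomputable section

namespace Groth.Agent.EulerMult

attribute [local instance] Abelian.hasFiniteBiproducts

variable {k : Type u} [Field k] {X : Scheme.{u}} [X.Over (Spec (CommRingCat.of k))]
  [IsProper (X ↘ Spec (CommRingCat.of k))]

/-- Affine morphisms preserve Euler characteristics. -/
theorem euler_push_affine {Y : Scheme.{u}} [Y.Over (Spec (CommRingCat.of k))] (g : Y ⟶ X) [IsAffineHom g]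
    (hg : g ≫ (X ↘ Spec (CommRingCat.of k)) = Y ↘ Spec (CommRingCat.of k)) (G : Y.Modules) (hG : Coh.IsQCoh G) :
    Curv2.euler k X ((Scheme.Modules.pushforward g).obj G) = Curv2.euler k Y G := by
  haveI := hG
  refine finsum_congr fun q => ?_
  obtain ⟨e⟩ := CohFinite.hh_push_linear k g hg G (CohQC.directAcyclic_of_isAffineHom g G) q
  rw [e.finrank_eq]

theorem isCoh_power (F : X.Modules) (hF : Coh.IsCoh F) (d : ℕ) : Coh.IsCoh (∐ fun _ : Fin d => F) :=
  CohFinite.isCoh_of_iso (biproduct.isoCoproduct fun _ : Fin d => F) (Devissage.isCoh_biproduct _ fun _ => hF)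

/-- Euler characteristic of a finite direct sum, tensored. -/
theorem euler_coprod_tensor (F M : X.Modules) (d : ℕ) (hFM : Coh.IsCoh (CohB1.tensorMod F M))
    (hD : Coh.IsCoh (CohB1.tensorMod (∐ fun _ : Fin d => F) M)) :
    Curv2.euler k X (CohB1.tensorMod (∐ fun _ : Fin d => F) M) = d * Curv2.euler k X (CohB1.tensorMod F M) := by
  obtain ⟨N, -, hN⟩ := CurveRR.exists_bound k X
  rw [CurveRR.euler_eq_sum _ N (hN _ hD.1), CurveRR.euler_eq_sum _ N (hN _ hFM.1), Finset.mul_sum]
  refine Finset.sum_congr rfl fun q _ => ?_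
  haveI : Module.Finite k (Coh.HH X (CohB1.tensorMod F M) q) := CohFinite.finite_proper k X _ hFM q
  obtain ⟨e⟩ := P1Split.nonempty_hh_coprod k (fun _ : Fin d => F) M q
  simp only [CurveRR.h, e.finrank_eq, Module.finrank_pi_fintype, Finset.sum_const, Finset.card_univ, Fintype.card_fin,
    smul_eq_mul]
  push_cast
  ring

theorem euler_coprod (F : X.Modules) (hF : Coh.IsCoh F) (d : ℕ) :
    Curv2.euler k X (∐ fun _ : Fin d => F) = d * Curv2.euler k X F := by
  let u : ∀ G : X.Modules, CohB1.tensorMod G (Coh.structureModule X) ≅ G := fun G =>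
    TMul.commIso G _ ≪≫ TMul.leftUnitIso G
  rw [← CurveRR.euler_eq_of_iso (u F), ← CurveRR.euler_eq_of_iso (u (∐ fun _ : Fin d => F))]
  exact euler_coprod_tensor F _ d (CohFinite.isCoh_of_iso (u F).symm hF)
    (CohFinite.isCoh_of_iso (u _).symm (isCoh_power F hF d))

/-- A locally free module which becomes trivial on a finite cover multiplies Euler characteristics by its rank. -/
theorem euler_tensor_of_trivial [Nonempty X] {d : ℕ} {E : X.Modules} (hE : FlatMod.IsFinLocFreeOfRank d E)
    {T : Scheme.{u}} (π : T ⟶ X) [IsFinite π] [Surjective π]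
    (e : (Scheme.Modules.pullback π).obj E ≅ FlatMod.freeMod T d) (M : X.Modules) (hM : Coh.IsCoh M) :
    Curv2.euler k X (CohB1.tensorMod M E) = d * Curv2.euler k X M := by
  haveI := CurveRR.isNoetherian_of_proper k X
  letI : T.Over (Spec (CommRingCat.of k)) := ⟨π ≫ (X ↘ Spec (CommRingCat.of k))⟩
  haveI : IsProper (T ↘ Spec (CommRingCat.of k)) :=
    inferInstanceAs (IsProper (π ≫ (X ↘ Spec (CommRingCat.of k))))
  haveI := CurveRR.isNoetherian_of_proper k T
  have hEc := CurveRR.isCoh_of_rank hE
  have hO : Coh.IsCoh (Coh.structureModule T) := RefStalk.isCoh_structureModule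
  have key : ∀ H : T.Modules, Coh.IsCoh H →
      Curv2.euler k X (CohB1.tensorMod ((Scheme.Modules.pushforward π).obj H) E) =
        d * Curv2.euler k X ((Scheme.Modules.pushforward π).obj H) := by
    intro H hH
    haveI : HasInjectiveResolutions T.Modules := inferInstance
    obtain ⟨p⟩ := Groth.Agent.S0927.result π H E (fun x => let ⟨U, h1, h2⟩ := hE x; ⟨U, d, h1, h2⟩) 0
    let z := fun G : T.Modules => asIso ((Scheme.Modules.pushforward π).toRightDerivedZero.app G)
    let q : CohB1.tensorMod ((Scheme.Modules.pushforward π).obj H) E ≅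
        (Scheme.Modules.pushforward π).obj (CohB1.tensorMod (FlatMod.freeMod T d) H) :=
      TMul.commIso _ _ ≪≫ PicGrp.tensorModIso (Iso.refl E) (z H) ≪≫ p ≪≫ (z _).symm ≪≫
        (Scheme.Modules.pushforward π).mapIso (PicGrp.tensorModIso e (Iso.refl H))
    have hfree : Coh.IsCoh (FlatMod.freeMod T d) :=
      CohFinite.isCoh_of_iso (biproduct.isoCoproduct fun _ : Fin d => Coh.structureModule T) (Devissage.isCoh_biproduct _ fun _ => hO)
    have hFH := CurveRR.isCoh_tensor' hfree hH
    rw [CurveRR.euler_eq_of_iso q, euler_push_affine π rfl _ hFH.1, euler_push_affine π rfl _ hH.1,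
      ← CurveRR.euler_eq_of_iso (k := k) (TMul.leftUnitIso H)]
    exact euler_coprod_tensor (Coh.structureModule T) H d (CurveRR.isCoh_tensor' hO hH) hFH
  let φ : X.Modules → ℤ := fun F => Curv2.euler k X (CohB1.tensorMod F E) - d * Curv2.euler k X F
  suffices φ M = 0 by simpa [φ, sub_eq_zero] using this
  refine Devissage.roots (fun F => φ F = 0) (fun F G ⟨i⟩ h => ?_) (fun S hS h₁ h₂ h₃ => ?_)
    (fun F m hm hF h => ?_) (fun Z i _ _ => ?_) M hM
  · simp only [φ] at h ⊢
    rw [← CurveRR.euler_eq_of_iso i, ← CurveRR.euler_eq_of_iso (PicGrp.tensorModIso i (Iso.refl E))]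
    exact h
  · have hT := CurveRR.shortExact_tmapR (CurveRR.hasFrames_of_rank hE) hS
    have a := CurveRR.euler_add (k := k) hT (CurveRR.isCoh_tensor' h₁ hEc) (CurveRR.isCoh_tensor' h₂ hEc)
      (CurveRR.isCoh_tensor' h₃ hEc)
    have b := CurveRR.euler_add (k := k) hS h₁ h₂ h₃
    change Curv2.euler k X (CohB1.tensorMod S.X₂ E) =
      Curv2.euler k X (CohB1.tensorMod S.X₁ E) + Curv2.euler k X (CohB1.tensorMod S.X₃ E) at a
    simp only [φ, a, b]
    exact ⟨fun x y => by linarith, fun x y => by linarith⟩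
  · simp only [φ] at h ⊢
    rw [euler_coprod_tensor F E m (CurveRR.isCoh_tensor' hF hEc)
      (CurveRR.isCoh_tensor' (isCoh_power F hF m) hEc), euler_coprod F hF m] at h
    have h' : (m : ℤ) * (Curv2.euler k X (CohB1.tensorMod F E) - d * Curv2.euler k X F) = 0 := by linarith
    exact (mul_eq_zero.1 h').resolve_left (by omega)
  let a : pullback i π ⟶ Z := pullback.fst i π
  let b : pullback i π ⟶ T := pullback.snd i π
  haveI : IsFinite a := MorphismProperty.pullback_fst i π inferInstance
  haveI : Surjective a := MorphismProperty.pullback_fst i π inferInstance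
  haveI : IsClosedImmersion b := MorphismProperty.pullback_snd i π inferInstance
  haveI : IsLocallyNoetherian Z := LocallyOfFiniteType.isLocallyNoetherian i
  haveI : IsLocallyNoetherian (pullback i π) := LocallyOfFiniteType.isLocallyNoetherian b
  have hW : Coh.IsCoh (Coh.structureModule (pullback i π)) := RefStalk.isCoh_structureModule
  refine ⟨(Scheme.Modules.pushforward a).obj (Coh.structureModule _), Intersect.isCoh_push' a hW, ?_, ?_⟩
  · rw [← not_subsingleton_iff_nontrivial]
    intro hs
    obtain ⟨w, hw⟩ := a.surjective (genericPoint Z)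
    let one : Γ((Scheme.Modules.pushforward a).obj (Coh.structureModule (pullback i π)), ⊤) :=
      (show Γ(pullback i π, a ⁻¹ᵁ ⊤) from 1)
    obtain ⟨V, hV, i₁, i₂, hg⟩ := TopCat.Presheaf.germ_eq
      ((Scheme.Modules.pushforward a).obj (Coh.structureModule (pullback i π))).presheaf (genericPoint Z)
      (U := ⊤) (V := ⊤) trivial trivial one 0 (@Subsingleton.elim _ hs _ _)
    have hwV : w ∈ a ⁻¹ᵁ V := show a w ∈ V from hw ▸ hV
    haveI : Nonempty (a ⁻¹ᵁ V) := ⟨⟨w, hwV⟩⟩
    have h0 : Groth.Agent.QC.resO (pullback i π) ((Opens.map a.base).map i₁).le 1 = 0 := hg.trans (map_zero _)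
    exact one_ne_zero ((map_one _).symm.trans h0)
  show φ _ = 0
  simp only [φ]
  rw [sub_eq_zero]
  let c := (Scheme.Modules.pushforwardComp a i).app (Coh.structureModule (pullback i π)) ≪≫
    (Scheme.Modules.pushforwardCongr (pullback.condition (f := i) (g := π))).app _ ≪≫
    ((Scheme.Modules.pushforwardComp b π).app _).symm
  exact ((CurveRR.euler_eq_of_iso (PicGrp.tensorModIso c (Iso.refl E))).trans (key _ (Intersect.isCoh_push' b hW))).trans
    (congrArg ((d : ℤ) * ·) (CurveRR.euler_eq_of_iso c).symm)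

/-- Euler characteristic of a pullback along a finite flat morphism. -/
theorem euler_pullback_of_trivial {Y : Scheme.{u}} [Y.Over (Spec (CommRingCat.of k))] [Nonempty X] (f : Y ⟶ X)
    [IsFinite f] [Flat f] [LocallyOfFinitePresentation f]
    (hf : f ≫ (X ↘ Spec (CommRingCat.of k)) = Y ↘ Spec (CommRingCat.of k)) {d : ℕ} (hd : ∀ x, f.finrank x = d)
    {T : Scheme.{u}} (π : T ⟶ X) [IsFinite π] [Surjective π]
    (e : (Scheme.Modules.pullback π).obj (ResDesc.algMod f) ≅ FlatMod.freeMod T d) (F : X.Modules) (hF : Coh.IsCoh F) :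
    Curv2.euler k Y ((Scheme.Modules.pullback f).obj F) = d * Curv2.euler k X F := by
  have hE := FEtRank.isFinLocFreeOfRank_of_finrank_eq f hd
  have hE' : FlatMod.IsFinLocFree (ResDesc.algMod f) := fun x => let ⟨U, h1, h2⟩ := hE x; ⟨U, d, h1, h2⟩
  haveI := ResDesc.isIso_phi f F hE' hF.1
  rw [← euler_push_affine f hf _ (Groth.Agent.QC.isQCoh_pullback f hF.1),
    ← CurveRR.euler_eq_of_iso (asIso (ResDesc.phi f F)), CurveRR.euler_eq_of_iso (TMul.commIso _ _)]
  exact euler_tensor_of_trivial hE π e F hF

end Groth.Agent.EulerMult
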