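import Groth.Agent.PBundle.FrameTools
import Groth.Agent.PBundle.TopPower
import Mathlib.AlgebraicGeometry.Limits

/-!
The direct image of the structure sheaf of a trivial cover is free.
-/

set_option autoImplicit false
set_option backward.isDefEq.respectTransparency false
set_option linter.style.haveILetI false
set_option linter.unusedSectionVars false

universe u

open CategoryTheory CategoryTheory.Limits AlgebraicGeometry TopologicalSpace Opposite
open Groth.Agent.QC (res resO res_res res_smul resO_resO app_res)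

noncomputable section

namespace Groth.Agent.EulerMult

variable {Z T : Scheme.{u}} (p : Z ⟶ T) {n : ℕ} (s : Fin n → (T ⟶ Z))

theorem appLE_of_eq_id {f : T ⟶ T} (h : f = 𝟙 T) (U : T.Opens) (e : U ≤ f ⁻¹ᵁ U) (a : Γ(T, U)) :
    f.appLE U U e a = a := by
  subst h
  simp [Scheme.Hom.appLE]
  exact ConcreteCategory.congr_hom (T.presheaf.map_id (op U)) a

/-- Disjoint sections covering the source trivialise the direct image of the structure sheaf. -/
theorem nonempty_push_iso_free [∀ i, IsOpenImmersion (s i)] (hs : ∀ i, s i ≫ p = 𝟙 T)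
    (hcov : ∀ z : Z, ∃ i w, s i w = z) (hdisj : ∀ i j w w', s i w = s j w' → i = j) [IsAffineHom p] :
    Nonempty ((Scheme.Modules.pushforward p).obj (Coh.structureModule Z) ≅ FlatMod.freeMod T n) := by
  classical
  let V : Fin n → Z.Opens := fun i => (s i).opensRange
  have hzero : ∀ {W : Z.Opens} (t : Γ(Z, W)),
      (∀ i, (s i).app W t = 0) → t = 0 := fun {W} t ht => by
    refine TopCat.Presheaf.section_ext Z.sheaf W _ _ fun z hz => ?_
    obtain ⟨i, w, rfl⟩ := hcov z
    apply (ConcreteCategory.bijective_of_isIso ((s i).stalkMap w)).1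
    refine (Scheme.Hom.germ_stalkMap_apply (s i) W w hz t).trans ?_
    refine Eq.trans ?_ (Scheme.Hom.germ_stalkMap_apply (s i) W w hz 0).symm
    rw [ht, map_zero, map_zero, map_zero]
  have hglue : ∀ c : Fin n → Bool, ∃ e : Γ(Z, ⊤), ∀ j, (s j).app ⊤ e = if c j then 1 else 0 := by
    intro c
    obtain ⟨e, he, -⟩ := TopCat.Sheaf.existsUnique_gluing' Z.sheaf V ⊤ (fun i => homOfLE le_top)
      (fun z _ => let ⟨i, w, hw⟩ := hcov z; Opens.mem_iSup.2 ⟨i, w, hw⟩) (fun i => if c i then 1 else 0) (fun i j => by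
        by_cases h : i = j
        · subst h; rfl
        · refine TopCat.Presheaf.section_ext Z.sheaf _ _ _ fun z hz => ?_
          obtain ⟨⟨w, hw⟩, ⟨w', hw'⟩⟩ := hz
          exact absurd (hdisj i j w w' (hw.trans hw'.symm)) h)
    refine ⟨e, fun j => ?_⟩
    refine TopCat.Presheaf.section_ext T.sheaf _ _ _ fun w hw => ?_
    have hj := congrArg ((s j).app (V j)) (he j)
    have hw' : w ∈ (s j) ⁻¹ᵁ (V j) := ⟨w, rfl⟩
    have h2 := congrArg (T.presheaf.germ _ w hw') hj
    rw [← Scheme.Hom.germ_stalkMap_apply (s j) (V j) w hw',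
      ← Scheme.Hom.germ_stalkMap_apply (s j) (V j) w hw'] at h2
    have h3 : (Z.presheaf.germ (V j) (s j w) hw').hom (Z.presheaf.map (homOfLE le_top).op e) =
        (Z.presheaf.germ ⊤ (s j w) trivial).hom e :=
      TopCat.Presheaf.germ_res_apply Z.presheaf _ _ _ e
    refine ((Scheme.Hom.germ_stalkMap_apply (s j) ⊤ w trivial e).symm.trans ?_)
    rw [← h3]
    refine h2.trans ?_
    split_ifs <;> simp only [map_one, map_zero]
  choose e he using fun i : Fin n => hglue fun j => decide (j = i)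
  let M := (Scheme.Modules.pushforward p).obj (Coh.structureModule Z)
  let b : Fin n → Γ(M, ⊤) := fun i => (show Γ(Z, p ⁻¹ᵁ ⊤) from e i)
  have hM : Coh.IsQCoh M := by
    haveI : (Coh.structureModule Z).IsQuasicoherent := Groth.Agent.QC.isQCoh_unit Z
    exact Groth.Agent.QC.isQCoh_pushforward p
  have hb : TMul.IsFrame b := by
    intro x _
    obtain ⟨D, hD, hxD, -⟩ := exists_isAffineOpen_mem_and_subset (x := x) (U := (⊤ : T.Opens)) trivial
    have hle : ∀ i, D ≤ (s i) ⁻¹ᵁ (p ⁻¹ᵁ D) := fun i => by rw [← Scheme.Hom.comp_preimage, hs]; rfl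
    have hge : ∀ i, (s i) ⁻¹ᵁ (p ⁻¹ᵁ D) ≤ D := fun i => by rw [← Scheme.Hom.comp_preimage, hs]; rfl
    let q : ∀ _ : Fin n, Γ(Z, p ⁻¹ᵁ D) →+* Γ(T, D) := fun i => ((s i).appLE (p ⁻¹ᵁ D) D (hle i)).hom
    have hqp : ∀ i a, q i (p.app D a) = a := fun i a => by
      show (p.app D ≫ (s i).appLE (p ⁻¹ᵁ D) D (hle i)) a = a
      rw [Scheme.Hom.app_eq_appLE, Scheme.Hom.appLE_comp_appLE]
      exact appLE_of_eq_id (hs i) D _ a
    have hqe : ∀ i j, q j (resO Z le_top (e i)) = if j = i then 1 else 0 := fun i j => by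
      show (Z.presheaf.map (homOfLE le_top).op ≫ (s j).appLE (p ⁻¹ᵁ D) D (hle j)) (e i) = _
      rw [Scheme.Hom.map_appLE]
      show ((s j).app ⊤ ≫ T.presheaf.map (homOfLE le_top).op) (e i) = _
      rw [CommRingCat.comp_apply, he]
      by_cases h : j = i <;> simp [h]
    have hinj : ∀ t : Γ(Z, p ⁻¹ᵁ D), (∀ i, q i t = 0) → t = 0 := fun t ht => hzero t fun i => by
      have hz0 := ht i
      change (T.presheaf.map (homOfLE (hle i)).op) ((s i).app (p ⁻¹ᵁ D) t) = 0 at hz0
      have hi : IsIso (homOfLE (hle i)) := ⟨homOfLE (hge i), Subsingleton.elim _ _, Subsingleton.elim _ _⟩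
      haveI := hi
      have := (inferInstance : IsIso (homOfLE (hle i)).op)
      exact (ConcreteCategory.bijective_of_isIso (T.presheaf.map (homOfLE (hle i)).op)).1
        (hz0.trans (map_zero _).symm)
    have hcomb : ∀ (a : Fin n → Γ(T, D)) (j : Fin n),
        q j (show Γ(Z, p ⁻¹ᵁ D) from ∑ i, a i • res M le_top (b i)) = a j := fun a j => by
      change q j (∑ i, (show Γ(Z, p ⁻¹ᵁ D) from p.app D (a i)) * resO Z (le_top : p ⁻¹ᵁ D ≤ ⊤) (e i)) = a j
      simp [map_sum, hqp, hqe]
    have hf : TMul.IsFrame fun i => res M (le_top : D ≤ ⊤) (b i) :=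
      PBundle.isFrame_of_bijective hM hD ⟨fun a a' h => funext fun j => by
        dsimp only at h
        rw [← hcomb a j, h, hcomb a' j], fun t => ⟨fun j => q j t, by
          refine sub_eq_zero.1 (hinj (show Γ(Z, p ⁻¹ᵁ D) from _) fun j => ?_)
          rw [map_sub, hcomb, sub_self]⟩⟩
    simpa only [WeakAssLib.mgerm_res] using hf x hxD
  have hbv := PBundle.isFrame_bv T n
  obtain ⟨φ, hφ⟩ := PBundle.exists_hom_frame hb rfl (PBundle.bv T)
  obtain ⟨ψ, hψ⟩ := PBundle.exists_hom_frame hbv rfl b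
  exact ⟨⟨φ, ψ, PBundle.hom_ext_frame hb rfl fun i => ((congrArg (ψ.app ⊤) (hφ i)).trans (hψ i)).trans rfl,
    PBundle.hom_ext_frame hbv rfl fun i => ((congrArg (φ.app ⊤) (hψ i)).trans (hφ i)).trans rfl⟩⟩

end Groth.Agent.EulerMult
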