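import Groth.Agent.EulerMult.Basic
import Groth.Agent.EulerMult.Fold
import Groth.Agent.W7FlatBC.Main
import Groth.Agent.DerPerf.Local
import Groth.Agent.FEtRank.Split

/-!
Euler characteristics along finite flat morphisms with trivial self base change, and along étale covers.
-/

set_option autoImplicit false
set_option backward.isDefEq.respectTransparency false
set_option linter.style.haveILetI false
set_option linter.unusedSectionVars false

universe u

open CategoryTheory CategoryTheory.Limits AlgebraicGeometry TopologicalSpace Opposite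

noncomputable section

namespace Groth.Agent.EulerMult

/-- Base change of `f_* O`. -/
theorem nonempty_algMod_baseChange {X Y T P : Scheme.{u}} {f : Y ⟶ X} {π : T ⟶ X} {a : P ⟶ Y} {b : P ⟶ T}
    [IsAffineHom f] [Flat π] (H : IsPullback a b f π) :
    Nonempty ((Scheme.Modules.pullback π).obj (ResDesc.algMod f) ≅ ResDesc.algMod b) := by
  haveI := W7FlatBC.isIso_baseChangeMap H (M := Coh.structureModule Y) (Groth.Agent.QC.isQCoh_unit Y)
  exact ⟨asIso ((Scheme.Modules.pullback π).map ((Scheme.Modules.pushforward f).map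
      ((Scheme.Modules.pullbackPushforwardAdjunction a).unit.app (Coh.structureModule Y))) ≫
      (Scheme.Modules.pullback π).map ((Scheme.Modules.pushforwardComp a f ≪≫ Scheme.Modules.pushforwardCongr H.w ≪≫
        (Scheme.Modules.pushforwardComp b π).symm).hom.app ((Scheme.Modules.pullback a).obj (Coh.structureModule Y))) ≫
      (Scheme.Modules.pullbackPushforwardAdjunction π).counit.app
        ((Scheme.Modules.pushforward b).obj ((Scheme.Modules.pullback a).obj (Coh.structureModule Y)))) ≪≫
    (Scheme.Modules.pushforward b).mapIso (DerPerf.pullUnitIso a)⟩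

open Groth.Agent.FEtRank Groth.Agent.FEtGal in
/-- A finite étale cover of constant degree trivialises on a finite flat cover. -/
theorem exists_trivialising {X Y : Scheme.{u}} (f : Y ⟶ X) [IsFinite f] [Etale f] {d : ℕ}
    (hd : ∀ x, f.finrank x = d) :
    ∃ (T : Scheme.{u}) (π : T ⟶ X) (_ : IsFinite π) (_ : Surjective π),
      Nonempty ((Scheme.Modules.pullback π).obj (ResDesc.algMod f) ≅ FlatMod.freeMod T d) := by
  let U : FEt.Cat X := MorphismProperty.Over.mk ⊤ f ⟨inferInstance, inferInstance⟩
  obtain ⟨T, s, hT, hs⟩ := exists_split d U fun Ω _ _ ξ => by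
    rw [natCard_fiber]; exact hd _
  have hrk : ∀ x, (str T).finrank x = d.factorial := fun x => by
    obtain ⟨Ω, _, _, ξ, rfl⟩ := exists_geomPt x
    rw [← natCard_fiber, hT Ω ξ]
  have hsurj : Surjective (str T) :=
    (Scheme.Hom.one_le_finrank_iff_surjective _).1 fun x => by rw [hrk]; exact Nat.factorial_pos d
  obtain ⟨e, he⟩ := exists_coprod_iso s (isIso_of_forall_bijective _ fun Ω _ _ ξ => bijective_desc s ξ (hs Ω ξ))
  let b : pullback f (str T) ⟶ T.left := pullback.snd f (str T)
  obtain ⟨w⟩ := nonempty_algMod_baseChange (IsPullback.of_hasPullback f (str T))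
  let σ : Fin d → (T.left ⟶ pullback f (str T)) := fun i => (s i).left
  have hσ : ∀ i, Sigma.ι (fun _ : Fin d => T.left) i ≫ e.inv = σ i := he
  haveI : ∀ i, IsOpenImmersion (σ i) := fun i => by rw [← hσ]; infer_instance
  have hcov : ∀ z : (pullback f (str T) : Scheme.{u}), ∃ i t, σ i t = z := fun z => by
    obtain ⟨i, t, ht⟩ := (sigmaOpenCover fun _ : Fin d => T.left).exists_eq (e.hom z)
    refine ⟨i, t, ?_⟩
    rw [← hσ, Scheme.Hom.comp_apply]
    exact (congrArg e.inv ht).trans (by rw [← Scheme.Hom.comp_apply, e.hom_inv_id]; rfl)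
  have hdisj : ∀ i j t t', σ i t = σ j t' → i = j := fun i j t t' h => by
    by_contra hne
    have hd' := disjoint_opensRange_sigmaι (fun _ : Fin d => T.left) i j hne
    rw [← hσ, ← hσ, Scheme.Hom.comp_apply, Scheme.Hom.comp_apply] at h
    have h' := (ConcreteCategory.bijective_of_isIso e.inv.base).1 h
    have hmem : Sigma.ι (fun _ : Fin d => T.left) i t ∈ (Sigma.ι (fun _ : Fin d => T.left) i).opensRange ⊓
        (Sigma.ι (fun _ : Fin d => T.left) j).opensRange := ⟨⟨t, rfl⟩, ⟨t', h'.symm⟩⟩
    rw [disjoint_iff.1 hd'] at hmem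
    exact hmem
  obtain ⟨v⟩ := nonempty_push_iso_free b σ (fun i => MorphismProperty.Over.w (s i)) hcov hdisj
  exact ⟨T.left, str T, inferInstance, hsurj, ⟨w ≪≫ v⟩⟩

variable {k : Type u} [Field k] {X Y : Scheme.{u}} [X.Over (Spec (CommRingCat.of k))]
  [IsProper (X ↘ Spec (CommRingCat.of k))] [Y.Over (Spec (CommRingCat.of k))]

/-- Euler characteristics are multiplicative for finite étale covers. -/
theorem euler_pullback_of_etale [Nonempty X] (f : Y ⟶ X) [IsFinite f] [Etale f]
    (hf : f ≫ (X ↘ Spec (CommRingCat.of k)) = Y ↘ Spec (CommRingCat.of k)) {d : ℕ} (hd : ∀ x, f.finrank x = d)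
    (F : X.Modules) (hF : Coh.IsCoh F) :
    Curv2.euler k Y ((Scheme.Modules.pullback f).obj F) = d * Curv2.euler k X F := by
  obtain ⟨T, π, _, _, ⟨e⟩⟩ := exists_trivialising f hd
  exact euler_pullback_of_trivial f hf hd π e F hF

end Groth.Agent.EulerMult
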